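import Cfsg.Agent.Solvable.Frattini
import Cfsg.Agent.OddOrder.BG4.Basic
import Mathlib.GroupTheory.SpecificGroups.Dihedral
import Mathlib.GroupTheory.SpecificGroups.KleinFour
import Mathlib.GroupTheory.IndexNormal
import Mathlib.Tactic

/-!
# 2-groups of maximal class

For a group of order `2 ^ n`, `n ≥ 3`: the derived subgroup has index `4` iff the class is `n - 1`;
then there are a cyclic subgroup `⟨a⟩` of index `2` and `b` outside with `b a b⁻¹ = a ^ k`,
`2 ^ (n-2) ∣ k + 1`; the centre has order `2` and the central quotient is dihedral.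
-/

namespace CfsgLib.MaxClassTwo

open Subgroup
open scoped commutatorElement

variable {G : Type*} [Group G] [Finite G]

/-- The derived subgroup of a group generated by `a`, `b` and central elements, with `b`
normalising `⟨a⟩` modulo a central `z`, is cyclic, generated by `a ^ (k - 1) * z`. -/
theorem commutator_le_zpowers {a b z : G} {k : ℤ} (hz : z ∈ center G)
    (hb : b * a * b⁻¹ = a ^ k * z) (hgen : closure ({a, b} ∪ (center G : Set G)) = ⊤) :
    commutator G ≤ zpowers (a ^ (k - 1) * z) := by
  set c := a ^ (k - 1) * z with hc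
  have hac : Commute a c :=
    ((Commute.refl a).zpow_right _).mul_right (mem_center_iff.1 hz a)
  have hbc : b * c * b⁻¹ = c ^ k := by
    have h1 : b * z * b⁻¹ = z := by rw [mem_center_iff.1 hz b, mul_inv_cancel_right]
    have hzk : Commute (a ^ k) z := mem_center_iff.1 hz _
    have hzc : Commute (a ^ (k - 1)) z := mem_center_iff.1 hz _
    calc b * c * b⁻¹ = (b * a * b⁻¹) ^ (k - 1) * (b * z * b⁻¹) := by rw [hc, conj_zpow]; group
      _ = (a ^ k * z) ^ (k - 1) * z := by rw [hb, h1]
      _ = a ^ (k * (k - 1)) * z ^ (k - 1) * z := by rw [hzk.mul_zpow, ← zpow_mul]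
      _ = a ^ (k * (k - 1)) * z ^ k := by rw [mul_assoc, ← zpow_add_one, sub_add_cancel]
      _ = c ^ k := by rw [hc, hzc.mul_zpow, ← zpow_mul, mul_comm (k - 1) k]
  have hfin : ∀ g : G, g ∈ ({a, b} ∪ (center G : Set G) : Set G) → g * c * g⁻¹ ∈ zpowers c := by
    rintro g (hg | hg)
    · rcases hg with rfl | rfl
      · rw [hac.eq, mul_inv_cancel_right]; exact mem_zpowers c
      · rw [hbc]; exact zpow_mem (mem_zpowers c) k
    · rw [← mem_center_iff.1 hg c, mul_inv_cancel_right]; exact mem_zpowers c
  haveI hnorm : (zpowers c).Normal := by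
    rw [← normalizer_eq_top_iff, eq_top_iff, ← hgen, closure_le]
    intro g hg
    refine mem_normalizer_fintype fun x hx => ?_
    obtain ⟨i, rfl⟩ := mem_zpowers_iff.1 hx
    rw [← conj_zpow]
    exact zpow_mem (hfin g hg) i
  refine Normal.quotient_commutative_iff_commutator_le.1 ⟨⟨?_⟩⟩
  let q := QuotientGroup.mk' (zpowers c)
  have hqc : q c = 1 := (QuotientGroup.eq_one_iff c).2 (mem_zpowers c)
  have hab : q a * q b = q b * q a := by
    have h1 : q b * q a = q (b * a * b⁻¹) * q b := by
      rw [← map_mul, ← map_mul, inv_mul_cancel_right]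
    rw [h1, hb]
    congr 1
    have : a ^ k * z = a * c := by
      rw [hc, ← mul_assoc, ← zpow_one_add, add_sub_cancel]
    rw [this, map_mul, hqc, mul_one]
  have hcomm : ∀ x ∈ q '' ({a, b} ∪ (center G : Set G)), ∀ y ∈ q '' ({a, b} ∪ (center G : Set G)),
      x * y = y * x := by
    rintro _ ⟨x, hx, rfl⟩ _ ⟨y, hy, rfl⟩
    rcases hx with hx | hx
    · rcases hy with hy | hy
      · rcases hx with rfl | rfl <;> rcases hy with rfl | rfl <;>
          first | rfl | exact hab | exact hab.symm
      · rw [← map_mul, ← map_mul, mem_center_iff.1 hy x]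
    · rw [← map_mul, ← map_mul, mem_center_iff.1 hx y]
  have htop : closure (q '' ({a, b} ∪ (center G : Set G))) = ⊤ := by
    rw [← MonoidHom.map_closure, hgen,
      Subgroup.map_top_of_surjective _ (QuotientGroup.mk'_surjective _)]
  haveI := isMulCommutative_closure hcomm
  intro x y
  exact congrArg Subtype.val
    (mul_comm' (⟨x, htop ▸ mem_top x⟩ : closure (q '' ({a, b} ∪ (center G : Set G))))
      ⟨y, htop ▸ mem_top y⟩)

theorem card_commutator_of_index {n : ℕ} (hn : 2 ≤ n) (hcard : Nat.card G = 2 ^ n)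
    (hidx : (commutator G).index = 4) : Nat.card (commutator G) = 2 ^ (n - 2) := by
  have h := card_mul_index (commutator G)
  rw [hidx, hcard, show 2 ^ n = 2 ^ (n - 2) * 4 by
    rw [show 4 = 2 ^ 2 from rfl, ← pow_add]; congr 1; omega] at h
  omega

theorem exists_cyclic_index_two {n : ℕ} : ∀ {H : Type*} [Group H] [Finite H],
    3 ≤ n → Nat.card H = 2 ^ n → (commutator H).index = 4 →
    ∃ a : H, orderOf a = 2 ^ (n - 1) := by
  induction n with
  | zero => intro H _ _ h; omega
  | succ n ih =>
    intro H _ _ hn hcard hidx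
    haveI : Fact (Nat.Prime 2) := ⟨Nat.prime_two⟩
    have hH : IsPGroup 2 H := IsPGroup.of_card hcard
    have hC := card_commutator_of_index (by omega) hcard hidx
    rcases Nat.lt_or_ge n 3 with hn3 | hn3
    · obtain rfl : n = 2 := by omega
      by_contra hno
      push Not at hno
      have hsq : ∀ x : H, x ^ 2 = 1 := by
        intro x
        obtain ⟨j, hj⟩ := IsPGroup.iff_orderOf.1 hH x
        have hj3 : j ≤ 3 := by
          have := orderOf_dvd_natCard x
          rw [hj, hcard] at this
          exact (Nat.pow_dvd_pow_iff_le_right (by norm_num)).1 this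
        rw [← orderOf_dvd_iff_pow_eq_one, hj]
        interval_cases j
        · exact one_dvd _
        · norm_num
        · exact absurd hj (hno x)
        · exfalso
          exact hno (x ^ 2) (by rw [orderOf_pow, hj]; rfl)
      have hab : ∀ x y : H, x * y = y * x := fun x y => by
        have hinv : ∀ w : H, w⁻¹ = w := fun w => inv_eq_of_mul_eq_one_right (by rw [← sq, hsq])
        calc x * y = (x * y)⁻¹ := (hinv _).symm
          _ = y * x := by rw [mul_inv_rev, hinv, hinv]
      have : commutator H = ⊥ := by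
        rw [_root_.commutator_def, eq_bot_iff, commutator_le]
        intro x _ y _
        rw [mem_bot, commutatorElement_eq_one_iff_mul_comm]
        exact hab x y
      rw [this, card_bot] at hC
      norm_num at hC
    · haveI : (commutator H).Normal := inferInstance
      obtain ⟨z, hz, hzc, hzo⟩ := OddOrder.BG4.exists_central_orderOf_prime hH
        (N := commutator H) (fun h => by
          rw [h, card_bot] at hC
          exact absurd hC.symm (Nat.one_lt_two_pow (by omega)).ne')
      set Z := zpowers z with hZ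
      have hZc : Z ≤ center H := zpowers_le.2 hzc
      haveI : Z.Normal := ⟨fun x hx g => by rw [mem_center_iff.1 (hZc hx) g, mul_inv_cancel_right]; exact hx⟩
      have hZ2 : Nat.card Z = 2 := by rw [hZ, Nat.card_zpowers, hzo]
      have hqcard : Nat.card (H ⧸ Z) = 2 ^ n := by
        have := card_mul_index Z
        rw [hZ2, hcard] at this
        rw [← index_eq_card]
        rw [pow_succ'] at this
        omega
      let q := QuotientGroup.mk' Z
      have hqidx : (commutator (H ⧸ Z)).index = 4 := by
        have : (commutator H).map q = commutator (H ⧸ Z) := by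
          rw [_root_.commutator_def, _root_.commutator_def, Subgroup.map_commutator,
            Subgroup.map_top_of_surjective _ (QuotientGroup.mk'_surjective Z)]
        rw [← this, index_map_eq _ (QuotientGroup.mk'_surjective Z)
          (by rw [QuotientGroup.ker_mk']; exact zpowers_le.2 hz), hidx]
      obtain ⟨a', ha'⟩ := ih hn3 hqcard hqidx
      obtain ⟨a, rfl⟩ := QuotientGroup.mk'_surjective Z a'
      change orderOf (q a) = _ at ha'
      have hdvd : orderOf (q a) ∣ orderOf a := orderOf_map_dvd q a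
      have hpow : a ^ 2 ^ (n - 1) ∈ Z := by
        rw [← QuotientGroup.eq_one_iff, QuotientGroup.mk_pow, ← ha']
        exact pow_orderOf_eq_one _
      by_cases hz1 : a ^ 2 ^ (n - 1) = 1
      swap
      · refine ⟨a, ?_⟩
        have hstep : n + 1 - 1 = n - 1 + 1 := by omega
        rw [hstep]
        refine orderOf_eq_prime_pow hz1 ?_
        rw [pow_succ, pow_mul]
        have h2 := (orderOf_dvd_natCard (⟨a ^ 2 ^ (n - 1), hpow⟩ : Z))
        rw [hZ2, orderOf_dvd_iff_pow_eq_one] at h2
        simpa using congrArg Subtype.val h2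
      exfalso
      have hao : orderOf a = 2 ^ (n - 1) :=
        Nat.dvd_antisymm (orderOf_dvd_of_pow_eq_one hz1) (ha' ▸ hdvd)
      -- the index-two subgroup `⟨a, z⟩`
      set A := (zpowers (q a)).comap q with hA
      have hAidx : A.index = 2 := by
        rw [hA, index_comap_of_surjective _ (QuotientGroup.mk'_surjective Z)]
        have := card_mul_index (zpowers (q a))
        rw [Nat.card_zpowers, ha', hqcard, show 2 ^ n = 2 ^ (n - 1) * 2 by
          rw [← pow_succ]; congr 1; omega] at this
        exact Nat.eq_of_mul_eq_mul_left (by positivity) this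
      haveI hAn : A.Normal := normal_of_index_eq_two hAidx
      obtain ⟨b, hb⟩ : ∃ b, b ∉ A := by
        by_contra h
        push Not at h
        rw [(eq_top_iff' A).2 h, index_top] at hAidx
        norm_num at hAidx
      have haA : a ∈ A := mem_zpowers (q a)
      have hmem : b * a * b⁻¹ ∈ A := hAn.conj_mem a haA b
      obtain ⟨k, hk⟩ := mem_zpowers_iff.1 (show q (b * a * b⁻¹) ∈ zpowers (q a) from hmem)
      rw [← map_zpow] at hk
      obtain ⟨w, hw, hwe⟩ : ∃ w ∈ Z, b * a * b⁻¹ = a ^ k * w :=
        ⟨(a ^ k)⁻¹ * (b * a * b⁻¹), QuotientGroup.eq.1 hk, by group⟩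
      have hgen : closure ({a, b} ∪ (center H : Set H)) = ⊤ := by
        refine (eq_top_iff' _).2 fun g => ?_
        have haC : a ∈ closure ({a, b} ∪ (center H : Set H)) := subset_closure (by simp)
        have hbC : b ∈ closure ({a, b} ∪ (center H : Set H)) := subset_closure (by simp)
        have hAC : ∀ x ∈ A, x ∈ closure ({a, b} ∪ (center H : Set H)) := by
          intro x hx
          obtain ⟨i, hi⟩ := mem_zpowers_iff.1 (show q x ∈ zpowers (q a) from hx)
          rw [← map_zpow] at hi
          have : x = a ^ i * ((a ^ i)⁻¹ * x) := by group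
          rw [this]
          exact mul_mem (zpow_mem haC i)
            (subset_closure (Or.inr (hZc (QuotientGroup.eq.1 hi))))
        by_cases hg : g ∈ A
        · exact hAC g hg
        · have : g * b ∈ A := (mul_mem_iff_of_index_two hAidx).2 ⟨fun h => absurd h hg,
            fun h => absurd h hb⟩
          have h2 := mul_mem (hAC _ this) (inv_mem hbC)
          simpa using h2
      have hle := card_le_of_le (commutator_le_zpowers (hZc hw) hwe hgen)
      -- `k` is odd
      have hk2 : Even (k - 1) := by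
        have hord : orderOf (q a ^ k) = 2 ^ (n - 1) := by
          rw [← map_zpow, hk, map_mul, map_mul, map_inv, ← ha']
          exact MulEquiv.orderOf_eq (MulAut.conj (q b)) (q a)
        by_contra hodd
        rw [Int.not_even_iff_odd] at hodd
        obtain ⟨j, hj⟩ := hodd
        have hkj : k = 2 * (j + 1) := by omega
        have : (q a ^ k) ^ 2 ^ (n - 2) = 1 := by
          rw [← zpow_natCast, ← zpow_mul, hkj, mul_comm 2 (j + 1), mul_assoc,
            show (2 : ℤ) * ((2 ^ (n - 2) : ℕ) : ℤ) = ((orderOf (q a) : ℕ) : ℤ) by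
              rw [ha', show n - 1 = n - 2 + 1 by omega, pow_succ']; push_cast; ring,
            mul_comm, zpow_mul, zpow_natCast, pow_orderOf_eq_one, one_zpow]
        have hd := orderOf_dvd_of_pow_eq_one this
        rw [hord, Nat.pow_dvd_pow_iff_le_right (by norm_num)] at hd
        omega
      obtain ⟨j, hj⟩ := hk2
      have hzero : (a ^ (k - 1) * w) ^ 2 ^ (n - 2) = 1 := by
        have hwc : Commute (a ^ (k - 1)) w := mem_center_iff.1 (hZc hw) _
        have h1 : (a ^ (k - 1)) ^ 2 ^ (n - 2) = 1 := by
          rw [← zpow_natCast, ← zpow_mul, show k - 1 = j * 2 by omega, mul_assoc,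
            show (2 : ℤ) * ((2 ^ (n - 2) : ℕ) : ℤ) = ((orderOf a : ℕ) : ℤ) by
              rw [hao, show n - 1 = n - 2 + 1 by omega, pow_succ']; push_cast; ring,
            mul_comm, zpow_mul, zpow_natCast, pow_orderOf_eq_one, one_zpow]
        have h2 : w ^ 2 ^ (n - 2) = 1 := by
          have h2 := Z.orderOf_dvd_natCard hw
          rw [hZ2] at h2
          rw [← orderOf_dvd_iff_pow_eq_one]
          exact h2.trans (dvd_pow_self 2 (by omega))
        rw [hwc.mul_pow, h1, h2, one_mul]
      rw [Nat.card_zpowers, hC] at hle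
      have := hle.trans (Nat.le_of_dvd (by positivity) (orderOf_dvd_of_pow_eq_one hzero))
      have := (Nat.pow_le_pow_iff_right (by norm_num : 1 < 2)).1 this
      omega

/-- The standard presentation data. -/
structure Data (G : Type*) [Group G] (n : ℕ) where
  a : G
  b : G
  k : ℤ
  order : orderOf a = 2 ^ (n - 1)
  index : (zpowers a).index = 2
  notMem : b ∉ zpowers a
  conj : b * a * b⁻¹ = a ^ k
  inv : (2 : ℤ) ^ (n - 2) ∣ k + 1
  sq : b ^ 2 ∈ zpowers (a ^ 2 ^ (n - 2))
  derived : commutator G ≤ zpowers (a ^ (k - 1))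
  cardDerived : Nat.card (commutator G) = 2 ^ (n - 2)

theorem exists_data {n : ℕ} (hn : 3 ≤ n) (hcard : Nat.card G = 2 ^ n)
    (hidx : (commutator G).index = 4) : Nonempty (Data G n) := by
  obtain ⟨a, ha⟩ := exists_cyclic_index_two hn hcard hidx
  have hindex : (zpowers a).index = 2 := by
    have := card_mul_index (zpowers a)
    rw [Nat.card_zpowers, ha, hcard, show 2 ^ n = 2 ^ (n - 1) * 2 by
      rw [← pow_succ]; congr 1; omega] at this
    exact Nat.eq_of_mul_eq_mul_left (by positivity) this
  obtain ⟨b, hb⟩ : ∃ b, b ∉ zpowers a := by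
    by_contra h
    push Not at h
    rw [(eq_top_iff' _).2 h, index_top] at hindex
    norm_num at hindex
  haveI hAn := normal_of_index_eq_two hindex
  obtain ⟨k, hk⟩ := mem_zpowers_iff.1 (hAn.conj_mem a (mem_zpowers a) b)
  have hgen : closure ({a, b} ∪ (center G : Set G)) = ⊤ := by
    refine (eq_top_iff' _).2 fun g => ?_
    have hAC : zpowers a ≤ closure ({a, b} ∪ (center G : Set G)) :=
      zpowers_le.2 (subset_closure (by simp))
    by_cases hg : g ∈ zpowers a
    · exact hAC hg
    · have hbC : b ∈ closure ({a, b} ∪ (center G : Set G)) := subset_closure (by simp)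
      have : g * b ∈ zpowers a :=
        (mul_mem_iff_of_index_two hindex).2 ⟨fun h => absurd h hg, fun h => absurd h hb⟩
      simpa using mul_mem (hAC this) (inv_mem hbC)
  have hder : commutator G ≤ zpowers (a ^ (k - 1)) := by
    have := commutator_le_zpowers (one_mem (center G)) (by rw [mul_one]; exact hk.symm) hgen
    rwa [mul_one] at this
  have hC := card_commutator_of_index (by omega) hcard hidx
  have hord : 2 ^ (n - 2) ≤ orderOf (a ^ (k - 1)) := by
    rw [← hC, ← Nat.card_zpowers]; exact card_le_of_le hder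
  have hA2 : ((2 ^ (n - 1) : ℕ) : ℤ) = 2 * 2 ^ (n - 2) := by
    rw [show n - 1 = n - 2 + 1 by omega, pow_succ']; push_cast; ring
  -- `k - 1` is even but not divisible by four
  have hnot4 : ¬ (4 : ℤ) ∣ k - 1 := by
    rintro ⟨j, hj⟩
    have : (a ^ (k - 1)) ^ 2 ^ (n - 3) = 1 := by
      rw [← zpow_natCast, ← zpow_mul, ← orderOf_dvd_iff_zpow_eq_one, ha, hA2, hj]
      refine ⟨j, ?_⟩
      rw [show n - 2 = n - 3 + 1 by omega, pow_succ']
      push_cast
      ring
    have hle := hord.trans (Nat.le_of_dvd (by positivity) (orderOf_dvd_of_pow_eq_one this))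
    have := (Nat.pow_le_pow_iff_right (by norm_num : 1 < 2)).1 hle
    omega
  obtain ⟨j, hj⟩ := mem_zpowers_iff.1
    (show b ^ 2 ∈ zpowers a by rw [sq]; exact mul_self_mem_of_index_two hindex b)
  have hk2 : ((2 ^ (n - 1) : ℕ) : ℤ) ∣ k * k - 1 := by
    rw [← ha, orderOf_dvd_iff_zpow_eq_one, zpow_sub, zpow_one, mul_inv_eq_one]
    calc a ^ (k * k) = (a ^ k) ^ k := zpow_mul a k k
      _ = b * a ^ k * b⁻¹ := by rw [← conj_zpow, ← hk]
      _ = b ^ 2 * a * (b ^ 2)⁻¹ := by rw [hk, sq]; group
      _ = a := by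
        rw [← hj, ((Commute.refl a).zpow_left j).eq, mul_inv_cancel_right]
  have hodd : (2 : ℤ) ∣ k - 1 := by
    have h2 : (2 : ℤ) ∣ k * k - 1 := (hA2 ▸ dvd_mul_right 2 _).trans hk2
    have h3 : (k * k - 1) = (k - 1) * (k - 1) + 2 * (k - 1) := by ring
    rw [h3] at h2
    have := (dvd_add_left (dvd_mul_right 2 (k - 1))).1 h2
    exact (Int.prime_two.dvd_mul.1 this).elim id id
  have hinv : (2 : ℤ) ^ (n - 2) ∣ k + 1 := by
    obtain ⟨u, hu⟩ := hodd
    have h : (2 : ℤ) * 2 ^ (n - 2) ∣ 2 * (u * (k + 1)) := by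
      rw [← hA2, ← mul_assoc, ← hu, show (k - 1) * (k + 1) = k * k - 1 by ring]
      exact hk2
    have h1 := (mul_dvd_mul_iff_left (two_ne_zero : (2 : ℤ) ≠ 0)).1 h
    refine IsCoprime.dvd_of_dvd_mul_left ?_ h1
    refine IsCoprime.pow_left (Int.prime_two.coprime_iff_not_dvd.2 fun ⟨v, hv⟩ => hnot4 ⟨v, ?_⟩)
    rw [hu, hv]; ring
  refine ⟨⟨a, b, k, ha, hindex, hb, hk.symm, hinv, ?_, hder, hC⟩⟩
  -- `b ^ 2` is fixed by `b`
  have hfix : (a ^ (k - 1)) ^ j = 1 := by
    have h1 : b * b ^ 2 * b⁻¹ = b ^ 2 := by group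
    rw [← hj, ← conj_zpow, ← hk, ← zpow_mul] at h1
    rw [← zpow_mul, sub_mul, one_mul, zpow_sub, h1, mul_inv_cancel]
  have hdiv : (orderOf (a ^ (k - 1)) : ℤ) ∣ j := orderOf_dvd_iff_zpow_eq_one.2 hfix
  have heq : orderOf (a ^ (k - 1)) = 2 ^ (n - 2) := by
    refine le_antisymm ?_ hord
    obtain ⟨u, hu⟩ := hodd
    refine Nat.le_of_dvd (by positivity) ?_
    rw [orderOf_dvd_iff_pow_eq_one, ← zpow_natCast, ← zpow_mul, ← orderOf_dvd_iff_zpow_eq_one, ha,
      hA2, hu]
    exact ⟨u, by push_cast; ring⟩
  rw [heq] at hdiv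
  obtain ⟨v, hv⟩ := hdiv
  exact ⟨v, by rw [← hj, hv, zpow_mul, zpow_natCast]⟩

namespace Data

variable {n : ℕ} (D : Data G n)

theorem mul_mem_cases (g : G) : g ∈ zpowers D.a ∨ ∃ i : ℤ, g = D.b * D.a ^ i := by
  by_cases hg : g ∈ zpowers D.a
  · exact Or.inl hg
  · right
    have : D.b⁻¹ * g ∈ zpowers D.a :=
      (mul_mem_iff_of_index_two D.index).2 ⟨fun h => absurd (by simpa using inv_mem h) D.notMem,
        fun h => absurd h hg⟩
    obtain ⟨i, hi⟩ := mem_zpowers_iff.1 this
    exact ⟨i, by rw [hi]; group⟩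

theorem a_pow_k_ne (hn : 3 ≤ n) : D.a ^ (D.k - 1) ≠ 1 := by
  intro h
  have hder := D.derived
  rw [h, zpowers_one_eq_bot, le_bot_iff] at hder
  have := D.cardDerived
  rw [hder, card_bot] at this
  exact (Nat.one_lt_two_pow (by omega : n - 2 ≠ 0)).ne this

end Data

end CfsgLib.MaxClassTwo
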