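import Cfsg.Agent.MaxClassTwo.Basic
import Mathlib.GroupTheory.Nilpotent
import Mathlib.GroupTheory.SpecificGroups.Cyclic
import Mathlib.Data.ZMod.Basic

/-!
# 2-groups of maximal class: centre, central quotient, class
-/

namespace CfsgLib.MaxClassTwo

open Subgroup
open scoped commutatorElement

variable {G : Type*} [Group G] [Finite G] {n : ℕ}

namespace Data

variable (D : Data G n)
include D

/-- The central involution. -/
def t : G := D.a ^ 2 ^ (n - 2)

theorem order_t (hn : 3 ≤ n) : orderOf D.t = 2 := by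
  rw [t, orderOf_pow' _ (by positivity), D.order,
    Nat.gcd_eq_right (Nat.pow_dvd_pow 2 (by omega)), Nat.pow_div (by omega) two_pos,
    show n - 1 - (n - 2) = 1 by omega, pow_one]

theorem orderOf_derived (hn : 3 ≤ n) : orderOf (D.a ^ (D.k - 1)) = 2 ^ (n - 2) := by
  refine le_antisymm (Nat.le_of_dvd (by positivity) ?_) ?_
  · rw [orderOf_dvd_iff_pow_eq_one, ← zpow_natCast, ← zpow_mul, ← orderOf_dvd_iff_zpow_eq_one,
      D.order, show n - 1 = n - 2 + 1 by omega, pow_succ]
    push_cast
    have h2 : (2 : ℤ) ∣ D.k - 1 := by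
      have h : (2 : ℤ) ∣ D.k + 1 := (dvd_pow_self 2 (by omega)).trans D.inv
      omega
    rw [mul_comm (D.k - 1)]
    exact mul_dvd_mul_left _ h2
  · rw [← D.cardDerived, ← Nat.card_zpowers]
    exact card_le_of_le D.derived

theorem t_mem_derived (hn : 3 ≤ n) : D.t ∈ commutator G := by
  have heq : commutator G = zpowers (D.a ^ (D.k - 1)) :=
    eq_of_le_of_card_ge D.derived (by rw [D.cardDerived, Nat.card_zpowers, D.orderOf_derived hn])
  have h2 : (2 : ℤ) ∣ D.k - 1 := by
    have h : (2 : ℤ) ∣ D.k + 1 := (dvd_pow_self 2 (by omega)).trans D.inv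
    omega
  obtain ⟨u, hu⟩ := h2
  rw [heq]
  have hle : zpowers (D.a ^ (D.k - 1)) ≤ zpowers (D.a ^ (2 : ℤ)) := by
    rw [zpowers_le, hu, zpow_mul]
    exact zpow_mem (mem_zpowers _) u
  have heq2 : zpowers (D.a ^ (D.k - 1)) = zpowers (D.a ^ (2 : ℤ)) :=
    eq_of_le_of_card_ge hle (by
      rw [Nat.card_zpowers, Nat.card_zpowers, D.orderOf_derived hn]
      refine Nat.le_of_dvd (by positivity) ?_
      rw [orderOf_dvd_iff_pow_eq_one, ← zpow_natCast, ← zpow_mul,
        ← orderOf_dvd_iff_zpow_eq_one, D.order, show n - 1 = n - 2 + 1 by omega, pow_succ']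
      push_cast
      rfl)
  rw [heq2, t, show n - 2 = n - 3 + 1 by omega, pow_succ', pow_mul, ← zpow_natCast D.a 2]
  exact pow_mem (mem_zpowers _) _

theorem conj_t (hn : 3 ≤ n) : D.b * D.t * D.b⁻¹ = D.t := by
  rw [t, ← conj_pow, D.conj, ← zpow_natCast, ← zpow_mul, ← zpow_natCast D.a, ← mul_inv_eq_one,
    ← zpow_sub, ← orderOf_dvd_iff_zpow_eq_one, D.order]
  have h : (2 : ℤ) ∣ D.k - 1 := by
    have h : (2 : ℤ) ∣ D.k + 1 := (dvd_pow_self 2 (by omega)).trans D.inv
    omega
  rw [show n - 1 = n - 2 + 1 by omega, pow_succ']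
  push_cast
  rw [show D.k * 2 ^ (n - 2) - 2 ^ (n - 2) = (D.k - 1) * 2 ^ (n - 2) by ring]
  exact mul_dvd_mul_right h _

theorem t_mem_center (hn : 3 ≤ n) : D.t ∈ center G := by
  rw [mem_center_iff]
  intro g
  have hat : ∀ i : ℤ, Commute (D.a ^ i) D.t := fun i =>
    ((Commute.refl D.a).pow_right _).zpow_left i
  have hbt : Commute D.b D.t := mul_inv_eq_iff_eq_mul.1 (D.conj_t hn)
  rcases D.mul_mem_cases g with hg | ⟨i, rfl⟩
  · obtain ⟨i, rfl⟩ := mem_zpowers_iff.1 hg
    exact hat i
  · exact (hbt.mul_left (hat i)).eq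

theorem center_eq (hn : 3 ≤ n) : center G = zpowers D.t := by
  refine le_antisymm (fun g hg => ?_) (zpowers_le.2 (D.t_mem_center hn))
  rcases D.mul_mem_cases g with hg' | ⟨i, rfl⟩
  · obtain ⟨i, rfl⟩ := mem_zpowers_iff.1 hg'
    have h : D.b * D.a ^ i * D.b⁻¹ = D.a ^ i := by
      rw [mem_center_iff.1 hg D.b, mul_inv_cancel_right]
    rw [← conj_zpow, D.conj, ← zpow_mul, ← mul_inv_eq_one, ← zpow_sub,
      show D.k * i - i = (D.k - 1) * i by ring, zpow_mul, ← orderOf_dvd_iff_zpow_eq_one,
      D.orderOf_derived hn] at h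
    obtain ⟨v, hv⟩ := h
    exact ⟨v, by show D.t ^ v = _; rw [t, hv, zpow_mul, zpow_natCast]⟩
  · exfalso
    have h : D.a * (D.b * D.a ^ i) = D.b * D.a ^ i * D.a := mem_center_iff.1 hg D.a
    have h1 : D.a * D.b = D.b * D.a := by
      rw [← mul_assoc, mul_assoc D.b, ((Commute.refl D.a).zpow_left i).eq, ← mul_assoc] at h
      exact mul_right_cancel h
    apply D.a_pow_k_ne hn
    rw [zpow_sub, zpow_one, mul_inv_eq_one, ← D.conj, ← h1, mul_inv_cancel_right]

theorem card_center (hn : 3 ≤ n) : Nat.card (center G) = 2 := by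
  rw [D.center_eq hn, Nat.card_zpowers, D.order_t hn]

theorem center_le_derived (hn : 3 ≤ n) : center G ≤ commutator G := by
  rw [D.center_eq hn, zpowers_le]
  exact D.t_mem_derived hn

theorem card_quotient (hn : 3 ≤ n) (hcard : Nat.card G = 2 ^ n) :
    Nat.card (G ⧸ center G) = 2 ^ (n - 1) := by
  have := card_mul_index (center G)
  rw [D.card_center hn, hcard, show 2 ^ n = 2 * 2 ^ (n - 1) by
    rw [← pow_succ']; congr 1; omega] at this
  rw [← index_eq_card]
  omega

/-- The central quotient is dihedral. -/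
theorem nonempty_quotient_equiv (hn : 3 ≤ n) (hcard : Nat.card G = 2 ^ n) :
    Nonempty (G ⧸ center G ≃* DihedralGroup (2 ^ (n - 2))) := by
  haveI : NeZero (2 ^ (n - 2)) := ⟨by positivity⟩
  set m := 2 ^ (n - 2) with hm
  let A : G ⧸ center G := QuotientGroup.mk' _ D.a
  let B : G ⧸ center G := QuotientGroup.mk' _ D.b
  have hA : A ^ (m : ℤ) = 1 := by
    rw [zpow_natCast, ← map_pow]
    exact (QuotientGroup.eq_one_iff _).2 (D.t_mem_center hn)
  have hper : ∀ l l' : ℤ, (l : ZMod m) = (l' : ZMod m) → A ^ l = A ^ l' := by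
    intro l l' h
    obtain ⟨v, hv⟩ := (ZMod.intCast_eq_intCast_iff_dvd_sub l l' m).1 h
    rw [show l' = l + (m : ℤ) * v by omega, zpow_add, zpow_mul, hA, one_zpow, mul_one]
  let E : ZMod m → G ⧸ center G := fun i => A ^ ((i.val : ℕ) : ℤ)
  have hE : ∀ l : ℤ, E (l : ZMod m) = A ^ l := fun l =>
    hper _ _ (by rw [Int.cast_natCast, ZMod.natCast_zmod_val])
  have hEadd : ∀ i j, E (i + j) = E i * E j := by
    intro i j
    rw [← ZMod.intCast_zmod_cast i, ← ZMod.intCast_zmod_cast j, ← Int.cast_add, hE, hE, hE,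
      zpow_add]
  have hEneg : ∀ i, E (-i) = (E i)⁻¹ := by
    intro i
    rw [← ZMod.intCast_zmod_cast i, ← Int.cast_neg, hE, hE, zpow_neg]
  have hBA : B * A * B⁻¹ = A⁻¹ := by
    have h : B * A * B⁻¹ = A ^ D.k := by
      rw [← map_inv, ← map_mul, ← map_mul, D.conj, map_zpow]
    rw [h, ← zpow_neg_one]
    exact hper _ _ ((ZMod.intCast_eq_intCast_iff_dvd_sub _ _ _).2 (by
      have := D.inv
      rw [show (-1 - D.k) = -(D.k + 1) by ring, dvd_neg, hm]
      exact_mod_cast this))
  have hB : B * B = 1 := by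
    rw [← map_mul, ← pow_two]
    exact (QuotientGroup.eq_one_iff _).2 (zpowers_le.2 (D.t_mem_center hn) D.sq)
  have hswap : ∀ i, E i * B = B * E (-i) := by
    intro i
    have h1 : ∀ l : ℤ, B * A ^ l * B⁻¹ = (A ^ l)⁻¹ := fun l => by
      rw [← conj_zpow, hBA, inv_zpow]
    rw [hEneg]
    show A ^ _ * B = B * (A ^ _)⁻¹
    rw [← h1, inv_eq_of_mul_eq_one_right hB, ← mul_assoc, ← mul_assoc, hB, one_mul]
  let f : DihedralGroup m → G ⧸ center G := fun
    | .r i => E i
    | .sr i => B * E i
  have hmul : ∀ x y, f (x * y) = f x * f y := by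
    rintro (i | i) (j | j)
    · simp only [DihedralGroup.r_mul_r, f, hEadd]
    · simp only [DihedralGroup.r_mul_sr, f]
      rw [← mul_assoc (E i), hswap, mul_assoc, ← hEadd, neg_add_eq_sub]
    · simp only [DihedralGroup.sr_mul_r, f, hEadd, mul_assoc]
    · simp only [DihedralGroup.sr_mul_sr, f]
      rw [mul_assoc B (E i), ← mul_assoc (E i), hswap, ← mul_assoc, ← mul_assoc, hB, one_mul,
        ← hEadd, neg_add_eq_sub]
  let F : DihedralGroup m →* G ⧸ center G := MonoidHom.mk' f hmul
  have hsurj : Function.Surjective F := by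
    intro y
    obtain ⟨g, rfl⟩ := QuotientGroup.mk'_surjective _ y
    rcases D.mul_mem_cases g with hg | ⟨i, rfl⟩
    · obtain ⟨i, rfl⟩ := mem_zpowers_iff.1 hg
      exact ⟨.r (i : ZMod m), (hE i).trans (map_zpow _ _ _).symm⟩
    · refine ⟨.sr (i : ZMod m), ?_⟩
      show B * E _ = _
      rw [hE, map_mul, map_zpow]
  have hbij : Function.Bijective F :=
    (Nat.bijective_iff_surjective_and_card F).2 ⟨hsurj, by
      rw [DihedralGroup.nat_card, D.card_quotient hn hcard, hm, ← pow_succ']
      congr 1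
      omega⟩
  exact ⟨(MulEquiv.ofBijective F hbij).symm⟩

end Data

/-- Index four of the derived subgroup gives maximal class. -/
theorem nilpotencyClass_of_index : ∀ {n : ℕ} {H : Type*} [Group H] [Finite H],
    3 ≤ n → Nat.card H = 2 ^ n → (commutator H).index = 4 →
    Group.nilpotencyClass H = n - 1 := by
  intro n
  induction n with
  | zero => intro H _ _ h; omega
  | succ n ih =>
    intro H _ _ hn hcard hidx
    haveI : Fact (Nat.Prime 2) := ⟨Nat.prime_two⟩
    haveI := (IsPGroup.of_card hcard).isNilpotent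
    haveI : Nontrivial H := Finite.one_lt_card_iff_nontrivial.1 (by
      rw [hcard]; exact Nat.one_lt_two_pow (by omega))
    obtain ⟨D⟩ := exists_data hn hcard hidx
    rw [nilpotencyClass_eq_quotient_center_plus_one]
    have hq := D.card_quotient hn hcard
    rcases Nat.lt_or_ge n 3 with hn3 | hn3
    · obtain rfl : n = 2 := by omega
      haveI : IsMulCommutative (H ⧸ center H) :=
        IsPGroup.isMulCommutative_of_card_eq_prime_sq (p := 2) hq
      haveI := (IsPGroup.of_card (p := 2) hq).isNilpotent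
      have h1 := Group.IsNilpotent.nilpotencyClass_le_one_iff.2 ‹IsMulCommutative (H ⧸ center H)›
      have h2 : Group.nilpotencyClass (H ⧸ center H) ≠ 0 := by
        rw [ne_eq, nilpotencyClass_zero_iff_subsingleton]
        exact fun h => by
          haveI := h
          rw [Nat.card_of_subsingleton (1 : H ⧸ center H)] at hq
          norm_num at hq
      omega
    · have hidx' : (commutator (H ⧸ center H)).index = 4 := by
        have : (commutator H).map (QuotientGroup.mk' (center H)) = commutator (H ⧸ center H) := by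
          rw [_root_.commutator_def, _root_.commutator_def, Subgroup.map_commutator,
            Subgroup.map_top_of_surjective _ (QuotientGroup.mk'_surjective _)]
        rw [← this, index_map_eq _ (QuotientGroup.mk'_surjective _)
          (by rw [QuotientGroup.ker_mk']; exact D.center_le_derived hn), hidx]
      rw [ih hn3 (by simpa using hq) hidx']
      omega

/-- Maximal class gives a noncyclic derived quotient of order four. -/
theorem index_of_nilpotencyClass (hn : 3 ≤ n) (hcard : Nat.card G = 2 ^ n)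
    (hc : Group.nilpotencyClass G = n - 1) : (commutator G).index = 4 := by
  haveI : Fact (Nat.Prime 2) := ⟨Nat.prime_two⟩
  have hG : IsPGroup 2 G := IsPGroup.of_card hcard
  haveI := hG.isNilpotent
  let L := fun i => Subgroup.lowerCentralSeries (⊤ : Subgroup G) i
  have hL1 : L 1 = commutator G := by
    simp only [L, Subgroup.lowerCentralSeries_succ, Subgroup.lowerCentralSeries_zero, _root_.commutator_def]
  -- strict descent
  have hstep : ∀ i < n - 1, 2 * Nat.card (L (i + 1)) ≤ Nat.card (L i) := by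
    intro i hi
    have hle : L (i + 1) ≤ L i := Subgroup.lowerCentralSeries_antitone _ (Nat.le_succ i)
    have hlt : L (i + 1) ≠ L i := by
      intro h
      have hst : ∀ j, i ≤ j → L j = L i := by
        intro j hj
        induction j, hj using Nat.le_induction with
        | base => rfl
        | succ j _ ihj =>
          show ⁅L j, (⊤ : Subgroup G)⁆ = L i
          rw [ihj]
          exact h
      have hbot : L i = ⊥ := by
        rw [← hst (Group.nilpotencyClass G) (by omega)]
        exact Subgroup.lowerCentralSeries_nilpotencyClass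
      have := Subgroup.lowerCentralSeries_eq_bot_iff_nilpotencyClass_le.1 hbot
      omega
    obtain ⟨x, hx⟩ := (hG.to_subgroup (L i)).exists_card_eq
    obtain ⟨y, hy⟩ := (hG.to_subgroup (L (i + 1))).exists_card_eq
    rw [hx, hy, ← pow_succ']
    refine Nat.pow_le_pow_right two_pos ?_
    by_contra hcon
    exact hlt (eq_of_le_of_card_ge hle (by
      rw [hx, hy]; exact Nat.pow_le_pow_right two_pos (by omega)))
  have hge : ∀ j ≤ n - 1, 2 ^ j ≤ Nat.card (L (n - 1 - j)) := by
    intro j hj
    induction j with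
    | zero => exact Nat.one_le_iff_ne_zero.2 Nat.card_pos.ne'
    | succ j ih =>
      have := hstep (n - 1 - (j + 1)) (by omega)
      rw [show n - 1 - (j + 1) + 1 = n - 1 - j by omega] at this
      calc 2 ^ (j + 1) = 2 * 2 ^ j := pow_succ' 2 j
        _ ≤ 2 * Nat.card (L (n - 1 - j)) := Nat.mul_le_mul_left 2 (ih (by omega))
        _ ≤ _ := this
  have hC := hge (n - 2) (by omega)
  rw [show n - 1 - (n - 2) = 1 by omega, hL1] at hC
  have hmul := card_mul_index (commutator G)
  rw [hcard] at hmul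
  have hile : (commutator G).index ≤ 4 := by
    have h : 2 ^ (n - 2) * (commutator G).index ≤ 2 ^ (n - 2) * 4 := by
      refine (Nat.mul_le_mul_right _ hC).trans ?_
      rw [hmul, show (4 : ℕ) = 2 ^ 2 from rfl, ← pow_add]
      exact Nat.pow_le_pow_right two_pos (by omega)
    exact Nat.le_of_mul_le_mul_left h (by positivity)
  -- the derived quotient is not cyclic
  have hnc : ¬ IsCyclic (G ⧸ commutator G) := by
    intro hcyc
    obtain ⟨g, hg⟩ := IsCyclic.exists_generator (α := G ⧸ commutator G)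
    obtain ⟨g, rfl⟩ := QuotientGroup.mk'_surjective _ g
    have htop : zpowers g ⊔ frattini G = ⊤ := by
      refine (eq_top_iff' _).2 fun x => ?_
      obtain ⟨i, hi⟩ := mem_zpowers_iff.1 (hg (QuotientGroup.mk' _ x))
      rw [← map_zpow] at hi
      rw [show x = g ^ i * ((g ^ i)⁻¹ * x) by group]
      exact mul_mem (mem_sup_left (zpow_mem (mem_zpowers g) i))
        (mem_sup_right (Solvable.commutator_le_frattini hG (QuotientGroup.eq.1 hi)))
    have htop' := Solvable.eq_top_of_sup_frattini htop
    have hab : IsMulCommutative G := by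
      refine ⟨⟨fun x y => ?_⟩⟩
      obtain ⟨i, rfl⟩ := mem_zpowers_iff.1 (htop'.symm ▸ mem_top x)
      obtain ⟨j, rfl⟩ := mem_zpowers_iff.1 (htop'.symm ▸ mem_top y)
      rw [← zpow_add, ← zpow_add, add_comm]
    have := Group.IsNilpotent.nilpotencyClass_le_one_iff.2 hab
    omega
  obtain ⟨e, he⟩ := (hG.to_quotient (commutator G)).exists_card_eq
  rw [← index_eq_card] at he
  rw [he] at hile ⊢
  have he2 : e ≤ 2 := by
    by_contra hcon
    have := Nat.pow_le_pow_right two_pos (show 3 ≤ e by omega)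
    omega
  interval_cases e
  · exfalso
    haveI : Subsingleton (G ⧸ commutator G) :=
      (Nat.card_eq_one_iff_unique.1 (by rw [← index_eq_card, he]; rfl)).1
    exact hnc isCyclic_of_subsingleton
  · exact absurd (isCyclic_of_prime_card (p := 2) (by rw [← index_eq_card, he]; rfl)) hnc
  · rfl

theorem isKleinFour_iff (hn : 3 ≤ n) (hcard : Nat.card G = 2 ^ n) :
    IsKleinFour (G ⧸ commutator G) ↔ (commutator G).index = 4 := by
  refine ⟨fun h => by rw [index_eq_card]; exact h.card_four, fun h => ?_⟩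
  have h4 : Nat.card (G ⧸ commutator G) = 4 := by rw [← index_eq_card, h]
  refine ⟨h4, ?_⟩
  obtain ⟨D⟩ := exists_data hn hcard h
  have hsq : ∀ x : G ⧸ commutator G, x ^ 2 = 1 := by
    intro x
    obtain ⟨g, rfl⟩ := QuotientGroup.mk'_surjective _ x
    rw [← map_pow]
    refine (QuotientGroup.eq_one_iff _).2 ?_
    have hb2 : D.b ^ 2 ∈ commutator G :=
      zpowers_le.2 (D.t_mem_derived hn) D.sq
    have heq : commutator G = zpowers (D.a ^ (D.k - 1)) :=
      eq_of_le_of_card_ge D.derived (by
        rw [D.cardDerived, Nat.card_zpowers, D.orderOf_derived hn])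
    have ha2 : D.a ^ 2 ∈ commutator G := by
      by_contra hcon
      -- otherwise `a` maps to an element of order four
      have hk : D.a ^ (D.k - 1) ∈ zpowers (D.a ^ 2) := by
        have h2 : (2 : ℤ) ∣ D.k - 1 := by
          have h : (2 : ℤ) ∣ D.k + 1 := (dvd_pow_self 2 (by omega)).trans D.inv
          omega
        obtain ⟨u, hu⟩ := h2
        exact ⟨u, by show (D.a ^ 2) ^ u = _; rw [hu, zpow_mul, zpow_two, sq]⟩
      have hsub : commutator G ≤ zpowers (D.a ^ 2) := heq ▸ zpowers_le.2 hk
      have := eq_of_le_of_card_ge hsub (by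
        rw [D.cardDerived, Nat.card_zpowers]
        refine Nat.le_of_dvd (by positivity) ?_
        rw [orderOf_dvd_iff_pow_eq_one, ← pow_mul, ← pow_succ', ← orderOf_dvd_iff_pow_eq_one,
          D.order, show n - 2 + 1 = n - 1 by omega])
      exact hcon (this ▸ mem_zpowers _)
    have hA2 : ∀ i : ℤ, (D.a ^ i) ^ 2 ∈ commutator G := fun i => by
      rw [← zpow_natCast, ← zpow_mul, mul_comm, zpow_mul, zpow_natCast]
      exact zpow_mem ha2 i
    rcases D.mul_mem_cases g with hg | ⟨i, rfl⟩
    · obtain ⟨i, rfl⟩ := mem_zpowers_iff.1 hg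
      exact hA2 i
    · have : (D.b * D.a ^ i) ^ 2 = ⁅D.b, D.a ^ i⁆ * ((D.a ^ i) * D.b ^ 2 * (D.a ^ i)⁻¹) *
          (D.a ^ i) ^ 2 := by
        simp only [commutatorElement_def, pow_two]; group
      rw [this]
      refine mul_mem (mul_mem ?_ ((inferInstance : (commutator G).Normal).conj_mem _ hb2 _)) (hA2 i)
      rw [_root_.commutator_def]
      exact commutator_mem_commutator (mem_top _) (mem_top _)
  refine Nat.dvd_antisymm (Monoid.exponent_dvd_of_forall_pow_eq_one hsq) ?_
  haveI : Nontrivial (G ⧸ commutator G) :=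
    Finite.one_lt_card_iff_nontrivial.1 (by omega)
  rcases (Nat.dvd_prime Nat.prime_two).1 (Monoid.exponent_dvd_of_forall_pow_eq_one hsq) with h1 | h1
  · exact absurd (Monoid.exp_eq_one_iff.1 h1) (not_subsingleton _)
  · rw [h1]

end CfsgLib.MaxClassTwo
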